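import Cfsg.Agent.H924.D5D

/-!
# S3570, tight cores: a module is not the sum of its vertices if these are the roots of one length (helper88)
-/

set_option autoImplicit false
set_option linter.unusedSectionVars false

namespace Cfsg.Agent.SM.Ti.F

open CoxeterSystem Cfsg.Agent.ChevalleyStructure.CoxeterGeom Cfsg.Agent.Tits.Roots Cfsg.Agent.Tits.Core
  Cfsg.Agent.Tits.Exchange Cfsg.Agent.Nodes.Reps Cfsg.Agent.Nodes.BNOf Cfsg.Agent.Nodes.StabComb
  Cfsg.Agent.Nodes.Bruhat Cfsg.Agent.Nodes.OppDec Cfsg.Agent.Nodes.LeviDec Cfsg.Agent.KFacts.RgdOpp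
  Cfsg.Agent.Omega.CR Cfsg.Agent.Omega.FOne.Lift.Sd Cfsg.Agent.H905.Md Cfsg.Agent.H905 Cfsg.Agent.H924.D5
open scoped commutatorElement

variable {I W Y : Type*} [Fintype I] [DecidableEq I] [Group W] [Group Y] {M : CoxeterMatrix I}
  {cs : CoxeterSystem M W} {A : I → I → ℤ} {h : IsCartan M A} {p : ℕ} {T : Subgroup Y} {n : I → Y}
  {X : (I → ℤ) → Subgroup Y} {k V : Type*} [Field k] [AddCommGroup V] [Module k V]
  (R : RGD cs h p T n X)

include R in
theorem comm_sr {i j : I} (hij : i ≠ j) {a b : Y} (ha : a ∈ X (sr i)) (hb : b ∈ X (-sr j)) : a * b = b * a := by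
  have h1 := R.comm (sr i) (-sr j) (isRoot_sr cs h i) (isRoot_sr cs h j).neg (by
    intro e
    have := congrFun e i
    rw [sr_self, Pi.neg_apply, sr_ne hij] at this
    omega) (by
    rw [neg_neg]
    intro e
    have := congrFun e i
    rw [sr_self, sr_ne hij] at this
    omega) a ha b hb
  have h2 : btw cs h X (sr i) (-sr j) = ⊥ := by
    unfold Nodes.Reps.btw
    rw [iSup_eq_bot]
    rintro ⟨z, hz, m, c, d, hm, hc, hd, he⟩
    exfalso
    have e1 := congrFun he i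
    have e2 := congrFun he j
    simp only [Pi.smul_apply, Pi.add_apply, Pi.neg_apply, smul_eq_mul, sr_self, sr_ne hij, sr_ne hij.symm] at e1 e2
    rcases hz.pos_or_neg with h3 | h3
    · have h4 : 0 ≤ m * z j := mul_nonneg hm.le (h3 j)
      linarith
    · have h4 : m * z i ≤ 0 := mul_nonpos_of_nonneg_of_nonpos hm.le (h3 i)
      linarith
  rwa [h2, Subgroup.mem_bot, commutatorElement_eq_one_iff_mul_comm] at h1

variable [Finite Y] [Finite W] [Fact p.Prime] [CharP k p] {ρ : Y →* Module.End k V} [FiniteDimensional k V] [Nontrivial V]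
  (hirr : ∀ L : Submodule k V, Ivt ρ (GG cs h T X) L → L = ⊥ ∨ L = ⊤) {i : I} (hJ : ∀ j, j ∉ Jx cs h X ρ ↔ j = i)
  (hd : Module.finrank k (Le cs h T X ρ {i}) ≤ 2 * Module.finrank k (D cs h X ρ)) (hK : Kv cs h R.nsys X ρ = ⊥)
include R hirr hJ hd hK

/-- a root element moves a vertex along an edge -/
theorem edge_ne {g g' : Y} (ω : List I) (hg : Rp cs R.nsys (cs.wordProd ω) g) (hg' : Rp cs R.nsys (cs.wordProd (ω ++ [i])) g')
    {x : I → ℤ} (hx : IsRoot cs h x) (h3 : rww A ω (Pi.single i 1) = -x) {b : Y} (hb : b ∈ X x) (hb1 : b ≠ 1) {v : V}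
    (hv : v ∈ (D cs h X ρ).map (ρ g)) (hv0 : v ≠ 0) : ρ b v - v ∈ (D cs h X ρ).map (ρ g') ∧ ρ b v - v ≠ 0 := by
  have h1 : rep cs h (cs.wordProd ω)⁻¹ x = -sr i := by
    rw [← neg_neg x, ← h3, ← rep_wordProd (cs := cs) (h := h), map_neg, ← rep_mul_apply, inv_mul_cancel, map_one]
    rfl
  constructor
  · refine mem_vertex R hirr hJ hK hg' fun w'' g'' hg'' hne φ hφ => ?_
    rw [map_sub, sub_eq_zero]
    by_cases e : lb cs h i w'' = lb cs h i (cs.wordProd ω)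
    · refine fixd_apply R hirr hJ hg'' hx ?_ hb hφ v
      rw [e, ← rep_inv_coord', h1, Pi.neg_apply, sr_self]
      norm_num
    · obtain ⟨v₁, h₁, v₂, h₂, e'⟩ := Submodule.mem_sup.1
        (edgev R hirr hJ hd hg hg' ω (lb_wordProd i ω) (lb_wordProd i _) hx h3 hb hv)
      rw [← e', map_add, pair_zero R hirr hJ hg'' hg e hφ h₁, pair_zero R hirr hJ hg'' hg' hne hφ h₂,
        pair_zero R hirr hJ hg'' hg e hφ hv, add_zero]
  · obtain ⟨c, hc, rfl⟩ := hv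
    intro e
    refine (hJ i).2 rfl (mem_Jx_of_fix R hirr (h1 ▸ R.conj_mem' hg hx hb) (fun k => hb1 ?_) hc
      (fun k => hv0 (by rw [k, map_zero])) ?_)
    · rw [show b = g * (g⁻¹ * b * g) * g⁻¹ by group, k]
      group
    · rw [rho_mul, rho_mul, sub_eq_zero.1 e, rho_inv_rho]

/-- **The zero weight.** -/
theorem kill (hD : D cs h X ρ ≠ ⊥) {a b : I} (hab : a ≠ b) (ω₁ ω₂ ω₃ : List I) (L : List (I → ℤ)) (E : List (List I))
    (h0 : Pi.single i 1 ∈ L) (hL : ∀ j, ∀ μ ∈ L, DC.fire A μ j ∈ L)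
    (h1 : rww A ω₁ (Pi.single i 1) = -Pi.single a 1) (h2 : rww A ω₂ (Pi.single i 1) = - -Pi.single b 1)
    (h3 : lbw A i ω₂ = lbw A i (ω₁ ++ [i])) (h4 : 0 ≤ pr (lbw A i ω₃) (Pi.single a 1))
    (h5 : ∀ μ ∈ L, μ = lbw A i ω₃ ∨ pr μ (-Pi.single b 1) ≤ 0 ∨ ∃ ω ∈ E, μ = lbw A i ω)
    (h6 : ∀ ω ∈ E, rww A ω (Pi.single i 1) = -Pi.single b 1 ∧ lbw A i ω ≠ lbw A i ω₁ ∧ lbw A i (ω ++ [i]) ≠ lbw A i ω₁) :
    False := by
  have hL' : ∀ w, lb cs h i w ∈ L := fun w => by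
    induction w using cs.simple_induction_left with
    | one => rwa [lb_one]
    | mul_simple_left w j ih => 
      rw [lb_simple_mul]
      exact hL j _ ih
  choose g hg using fun ω : List I => exists_rp cs R.nsys (cs.wordProd ω)
  have ra := isRoot_sr cs h a
  have rb := (isRoot_sr cs h b).neg
  obtain ⟨u, hu, u1⟩ := (X (sr a)).bot_or_exists_ne_one.resolve_left (X_ne_bot R ra)
  obtain ⟨z, hz, z1⟩ := (X (-sr b)).bot_or_exists_ne_one.resolve_left (X_ne_bot R rb)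
  obtain ⟨c, hc, c0⟩ := (D cs h X ρ).ne_bot_iff.1 hD
  have hv : ρ (g ω₁) c ∈ (D cs h X ρ).map (ρ (g ω₁)) := ⟨c, hc, rfl⟩
  have v0 : ρ (g ω₁) c ≠ 0 := fun e => c0 (by rw [← rho_inv_rho ρ (g ω₁) c, e, map_zero])
  generalize ρ (g ω₁) c = v at hv v0
  obtain ⟨k1, k2⟩ := edge_ne R hirr hJ hd hK ω₁ (hg _) (hg _) ra h1 hu u1 hv v0
  rw [← map_eq_of_lb R hirr hJ (hg ω₂) (hg _) (by rw [lb_wordProd, lb_wordProd, h3])] at k1
  refine (edge_ne R hirr hJ hd hK ω₂ (hg _) (hg _) rb h2 hz z1 k1 k2).2 ?_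
  have k3 : ρ z v - v ∈ (D cs h X ρ).map (ρ (g ω₃)) := by
    refine mem_vertex R hirr hJ hK (hg ω₃) fun w g' hg' hne φ hφ => ?_
    rw [map_sub, sub_eq_zero]
    rcases h5 _ (hL' w) with e | e | ⟨ω, hω, e⟩
    · exact absurd (e.trans (lb_wordProd i _).symm) hne
    · exact fixd_apply R hirr hJ hg' rb e hz hφ v
    · obtain ⟨e1, e2, e3⟩ := h6 ω hω
      have e4 : lb cs h i w ≠ lb cs h i (cs.wordProd ω₁) := by rwa [e, lb_wordProd]
      rw [pair_zero R hirr hJ hg' (hg ω₁) e4 hφ hv]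
      exact edged_apply R hirr hJ hd hg' (hg (ω ++ [i])) (hg ω₁) ω e (lb_wordProd i _) rb e1 hz hφ hv e4
        (by rwa [lb_wordProd, lb_wordProd])
  have k4 := fixv R hirr hJ (hg ω₃) ra (by rwa [lb_wordProd]) hu k3
  rw [map_sub, ← rho_mul, comm_sr R hab hu hz, rho_mul] at k4
  rw [map_sub, sub_eq_iff_eq_add.1 k4]
  abel

end Cfsg.Agent.SM.Ti.F
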