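import Cfsg.Agent.SM.Ti.F.Kill
import Cfsg.Agent.SM.Ti.Rows
import Cfsg.Agent.SM.Ti.Tool
import Cfsg.Agent.H2.Ppd.Exc

/-!
# S3570, tight cores: `F₄` (helper88)
-/

set_option autoImplicit false
set_option linter.unusedSectionVars false

namespace Cfsg.Agent.SM.Ti.F

open CoxeterSystem Cfsg.Agent.ChevalleyStructure.CoxeterGeom Cfsg.Agent.Tits.Roots Cfsg.Agent.Tits.Core
  Cfsg.Agent.Tits.Exchange Cfsg.Agent.Nodes.Reps Cfsg.Agent.Nodes.BNOf Cfsg.Agent.Nodes.StabComb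
  Cfsg.Agent.Nodes.Bruhat Cfsg.Agent.Nodes.OppDec Cfsg.Agent.Nodes.LeviDec Cfsg.Agent.KFacts.RgdOpp
  Cfsg.Agent.Omega.CR Cfsg.Agent.Omega.FOne.Lift.Sd Cfsg.Agent.H905.Md Cfsg.Agent.H905 Cfsg.Agent.H924.D5
open Cfsg Cfsg.Geo Cfsg.Lie Cfsg.Agent.H915.LD Cfsg.Agent.ChevalleyStructure.CoxeterGeomTypes
open Cfsg.Agent.H650.Ppd (mf dim_ge_list edge_pow)
open Cfsg.Agent.H911 (lin)

/-- the Cartan matrix -/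
def AF : Fin 4 → Fin 4 → ℤ := ![![2, -1, 0, 0], ![-1, 2, -2, 0], ![0, -1, 2, -1], ![0, 0, -1, 2]]

theorem cartan_eq : cartanOf chevF4 4 = AF := by decide +kernel

/-- vertices -/
def vs : Fin 4 → List (List (Fin 4)) := ![
  [[], [0], [0, 1], [0, 1, 2], [0, 1, 2, 1], [0, 1, 2, 3], [0, 1, 2, 1, 0], [0, 1, 2, 1, 3], [0, 1, 2, 1, 0, 3], [0, 1, 2,
  1, 3, 2], [0, 1, 2, 1, 0, 3, 2], [0, 1, 2, 1, 3, 2, 1], [0, 1, 2, 1, 0, 3, 2, 1], [0, 1, 2, 1, 3, 2, 1, 0], [0, 1, 2, 1,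
  0, 3, 2, 1, 0], [0, 1, 2, 1, 0, 3, 2, 1, 2], [0, 1, 2, 1, 0, 3, 2, 1, 0, 2], [0, 1, 2, 1, 0, 3, 2, 1, 2, 3], [0, 1, 2, 1,
  0, 3, 2, 1, 0, 2, 1], [0, 1, 2, 1, 0, 3, 2, 1, 0, 2, 3], [0, 1, 2, 1, 0, 3, 2, 1, 0, 2, 1, 3], [0, 1, 2, 1, 0, 3, 2, 1, 0,
  2, 1, 3, 2], [0, 1, 2, 1, 0, 3, 2, 1, 0, 2, 1, 3, 2, 1], [0, 1, 2, 1, 0, 3, 2, 1, 0, 2, 1, 3, 2, 1, 0]],
  [[], [1], [1, 0], [1, 2], [1, 0, 2], [1, 2, 1], [1, 2, 3], [1, 0, 2, 1], [1, 0, 2, 3], [1, 2, 1, 0], [1, 2, 1, 3], [1, 0,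
  2, 1, 0], [1, 0, 2, 1, 2], [1, 0, 2, 1, 3], [1, 2, 1, 0, 3], [1, 2, 1, 3, 2], [1, 0, 2, 1, 0, 2], [1, 0, 2, 1, 0, 3], [1,
  0, 2, 1, 2, 3], [1, 0, 2, 1, 3, 2], [1, 2, 1, 0, 3, 2], [1, 2, 1, 3, 2, 1], [1, 0, 2, 1, 0, 2, 1], [1, 0, 2, 1, 0, 2, 3],
  [1, 0, 2, 1, 0, 3, 2]],
  [[], [2], [2, 1], [2, 3], [2, 1, 0], [2, 1, 2], [2, 1, 3], [2, 1, 0, 2], [2, 1, 0, 3], [2, 1, 2, 3], [2, 1, 3, 2], [2, 1,
  0, 2, 1], [2, 1, 0, 2, 3], [2, 1, 0, 3, 2], [2, 1, 2, 3, 2], [2, 1, 3, 2, 1], [2, 1, 0, 2, 1, 2], [2, 1, 0, 2, 1, 3], [2,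
  1, 0, 2, 3, 2], [2, 1, 0, 3, 2, 1], [2, 1, 2, 3, 2, 1], [2, 1, 3, 2, 1, 0], [2, 1, 0, 2, 1, 2, 3], [2, 1, 0, 2, 1, 3, 2],
  [2, 1, 0, 2, 3, 2, 1]],
  [[], [3], [3, 2], [3, 2, 1], [3, 2, 1, 0], [3, 2, 1, 2], [3, 2, 1, 0, 2], [3, 2, 1, 2, 3], [3, 2, 1, 0, 2, 1], [3, 2, 1,
  0, 2, 3], [3, 2, 1, 0, 2, 1, 2], [3, 2, 1, 0, 2, 1, 3], [3, 2, 1, 0, 2, 1, 2, 3], [3, 2, 1, 0, 2, 1, 3, 2], [3, 2, 1, 0,
  2, 1, 2, 3, 2], [3, 2, 1, 0, 2, 1, 3, 2, 1], [3, 2, 1, 0, 2, 1, 2, 3, 2, 1], [3, 2, 1, 0, 2, 1, 3, 2, 1, 0], [3, 2, 1, 0,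
  2, 1, 2, 3, 2, 1, 0], [3, 2, 1, 0, 2, 1, 2, 3, 2, 1, 2], [3, 2, 1, 0, 2, 1, 2, 3, 2, 1, 0, 2], [3, 2, 1, 0, 2, 1, 2, 3, 2,
  1, 0, 2, 1], [3, 2, 1, 0, 2, 1, 2, 3, 2, 1, 0, 2, 1, 2], [3, 2, 1, 0, 2, 1, 2, 3, 2, 1, 0, 2, 1, 2, 3]]]

/-- edges -/
def es : Fin 4 → List (List (Fin 4)) := ![
  [[], [1], [1, 0], [1, 2], [1, 0, 2], [1, 2, 1], [1, 2, 3], [1, 0, 2, 1], [1, 0, 2, 3], [1, 2, 1, 0], [1, 2, 1, 3], [1, 0,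
  2, 1, 0], [1, 0, 2, 1, 2]],
  [[], [0], [2], [0, 1], [0, 2], [2, 1], [2, 3], [0, 1, 2], [0, 2, 1], [0, 2, 3], [2, 1, 0], [2, 1, 2], [2, 1, 3]],
  [[], [1], [3], [1, 0], [1, 2], [1, 3], [3, 2], [1, 0, 2], [1, 0, 3], [1, 2, 1], [1, 2, 3], [1, 3, 2], [3, 2, 1]],
  [[], [2], [2, 1], [2, 3], [2, 1, 0], [2, 1, 2], [2, 1, 3], [2, 1, 0, 2], [2, 1, 0, 3], [2, 1, 2, 3], [2, 1, 3, 2], [2, 1,
  0, 2, 1], [2, 1, 0, 2, 3]]]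

/-- vertices, two nodes -/
def v03 : List (List (Fin 4)) :=
  [[], [0], [3], [1, 0], [3, 0], [2, 3], [2, 1, 0], [3, 1, 0], [2, 3, 0], [1, 2, 3], [1, 2, 1, 0], [3, 2, 1, 0], [2, 3, 1,
  0], [1, 2, 3, 0], [0, 1, 2, 3], [2, 1, 2, 3], [0, 1, 2, 1, 0], [3, 1, 2, 1, 0], [2, 3, 2, 1, 0], [1, 2, 3, 1, 0], [0, 1,
  2, 3, 0], [2, 1, 2, 3, 0], [2, 0, 1, 2, 3], [3, 2, 1, 2, 3], [3, 0, 1, 2, 1, 0]]

/-- labels -/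
def l0 : List (Fin 4 → ℤ) :=
  [![1, 0, 0, 0], ![-1, 1, 0, 0], ![0, -1, 2, 0], ![0, 1, -2, 2], ![1, -1, 0, 2], ![0, 1, 0, -2], ![-1, 0, 0, 2], ![1, -1,
  2, -2], ![-1, 0, 2, -2], ![1, 1, -2, 0], ![-1, 2, -2, 0], ![2, -1, 0, 0], ![1, -2, 2, 0], ![-2, 1, 0, 0], ![-1, -1, 2, 0],
  ![1, 0, -2, 2], ![-1, 1, -2, 2], ![1, 0, 0, -2], ![0, -1, 0, 2], ![-1, 1, 0, -2], ![0, -1, 2, -2], ![0, 1, -2, 0], ![1,
  -1, 0, 0], ![-1, 0, 0, 0]]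

/-- dual edges -/
def e0 : List (List (Fin 4)) :=
  [[0, 1, 0], [2, 1, 2, 0, 1, 0], [3, 2, 1, 2, 0, 1, 0], [2, 1, 2, 3, 2, 1, 2, 0, 1, 0], [0, 1, 2, 3, 1, 2, 0, 1, 2, 0, 1,
  0], [2, 1, 2, 0, 1, 2, 3, 1, 2, 0, 1, 2, 0, 1, 0], [3, 2, 1, 2, 0, 1, 2, 3, 1, 2, 0, 1, 2, 0, 1, 0], [2, 1, 2, 3, 2, 1, 2,
  0, 1, 2, 3, 1, 2, 0, 1, 2, 0, 1, 0]]

/-- vertices -/
def u0 : List (List (Fin 4)) :=
  [[], [0], [1, 0], [2, 1, 0], [1, 2, 1, 0], [3, 2, 1, 0], [0, 1, 2, 1, 0], [3, 1, 2, 1, 0], [3, 0, 1, 2, 1, 0], [2, 3, 1,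
  2, 1, 0], [2, 3, 0, 1, 2, 1, 0], [1, 2, 3, 1, 2, 1, 0], [1, 2, 3, 0, 1, 2, 1, 0], [0, 1, 2, 3, 1, 2, 1, 0], [0, 1, 2, 3,
  0, 1, 2, 1, 0], [2, 1, 2, 3, 0, 1, 2, 1, 0], [2, 0, 1, 2, 3, 0, 1, 2, 1, 0], [3, 2, 1, 2, 3, 0, 1, 2, 1, 0], [1, 2, 0, 1,
  2, 3, 0, 1, 2, 1, 0], [3, 2, 0, 1, 2, 3, 0, 1, 2, 1, 0], [3, 1, 2, 0, 1, 2, 3, 0, 1, 2, 1, 0], [2, 3, 1, 2, 0, 1, 2, 3, 0,
  1, 2, 1, 0], [1, 2, 3, 1, 2, 0, 1, 2, 3, 0, 1, 2, 1, 0], [0, 1, 2, 3, 1, 2, 0, 1, 2, 3, 0, 1, 2, 1, 0]]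

/-- labels -/
def l3 : List (Fin 4 → ℤ) :=
  [![0, 0, 0, 1], ![0, 0, 1, -1], ![0, 1, -1, 0], ![1, -1, 1, 0], ![-1, 0, 1, 0], ![1, 0, -1, 1], ![-1, 1, -1, 1], ![1, 0,
  0, -1], ![0, -1, 1, 1], ![-1, 1, 0, -1], ![0, 0, -1, 2], ![0, -1, 2, -1], ![0, 0, 1, -2], ![0, 1, -2, 1], ![0, 1, -1, -1],
  ![1, -1, 0, 1], ![1, -1, 1, -1], ![-1, 0, 0, 1], ![-1, 0, 1, -1], ![1, 0, -1, 0], ![-1, 1, -1, 0], ![0, -1, 1, 0], ![0, 0,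
  -1, 1], ![0, 0, 0, -1]]

/-- dual edges -/
def e3 : List (List (Fin 4)) :=
  [[3], [3, 2, 1, 2, 3, 2, 1, 2], [3, 2, 0, 1, 2, 3, 2, 1, 2], [3, 1, 2, 0, 1, 2, 3, 2, 1, 2], [2, 3, 2, 1, 2, 0, 1, 2, 3,
  0, 1, 2], [1, 2, 3, 2, 1, 2, 0, 1, 2, 3, 0, 1, 2], [0, 1, 2, 3, 2, 1, 2, 0, 1, 2, 3, 0, 1, 2], [3, 2, 1, 2, 0, 1, 2, 3, 2,
  1, 2, 0, 1, 2, 3, 2, 1, 2, 0, 1, 2]]

/-- vertices -/
def u3 : List (List (Fin 4)) :=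
  [[], [3], [2, 3], [1, 2, 3], [0, 1, 2, 3], [2, 1, 2, 3], [2, 0, 1, 2, 3], [3, 2, 1, 2, 3], [1, 2, 0, 1, 2, 3], [3, 2, 0,
  1, 2, 3], [2, 1, 2, 0, 1, 2, 3], [3, 1, 2, 0, 1, 2, 3], [3, 2, 1, 2, 0, 1, 2, 3], [2, 3, 1, 2, 0, 1, 2, 3], [2, 3, 2, 1,
  2, 0, 1, 2, 3], [1, 2, 3, 1, 2, 0, 1, 2, 3], [1, 2, 3, 2, 1, 2, 0, 1, 2, 3], [0, 1, 2, 3, 1, 2, 0, 1, 2, 3], [0, 1, 2, 3,
  2, 1, 2, 0, 1, 2, 3], [2, 1, 2, 3, 2, 1, 2, 0, 1, 2, 3], [2, 0, 1, 2, 3, 2, 1, 2, 0, 1, 2, 3], [1, 2, 0, 1, 2, 3, 2, 1, 2,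
  0, 1, 2, 3], [2, 1, 2, 0, 1, 2, 3, 2, 1, 2, 0, 1, 2, 3], [3, 2, 1, 2, 0, 1, 2, 3, 2, 1, 2, 0, 1, 2, 3]]

theorem nd_vs : ∀ i, ((vs i).map (DC.cf AF i)).Nodup ∧ ((es i).map (mf AF i)).Nodup ∧ 24 ≤ (vs i).length ∧
    (es i).length = 13 ∧ (i = 1 ∨ i = 2 → (vs i).length = 25) := by decide +kernel

section dim

variable {W Y : Type*} [Group W] [Group Y] {M : CoxeterMatrix (Fin 4)} {cs : CoxeterSystem M W} {A : Fin 4 → Fin 4 → ℤ}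
  {h : IsCartan M A} {p : ℕ} {T : Subgroup Y} {n : Fin 4 → Y} {X : (Fin 4 → ℤ) → Subgroup Y} {k V : Type*} [Field k]
  [AddCommGroup V] [Module k V] (R : RGD cs h p T n X) [Finite Y] [Finite W] [Fact p.Prime] [CharP k p]
  {ρ : Y →* Module.End k V} [FiniteDimensional k V] [Nontrivial V]
  (hirr : ∀ L : Submodule k V, Ivt ρ (GG cs h T X) L → L = ⊥ ∨ L = ⊤) (hA : A = AF)
  (hD : Module.finrank k (D cs h X ρ) = 1) {i : Fin 4} (hi : i ∉ Jx cs h X ρ)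
include R hirr hA hD hi

theorem dim_edge : (vs i).length + 13 * Module.finrank k (Le cs h T X ρ {i}) ≤ Module.finrank k V + 26 := by
  subst hA
  have h1 := dim_ge_list R hirr hi _ _ (nd_vs i).1 (nd_vs i).2.1
  have h2 := finrank_Io R hirr i
  rw [hD, (nd_vs i).2.2.2.1] at h1
  omega

/-- **the least dimension** -/
theorem dim_ge (h2 : ∀ j, j ∉ Jx cs h X ρ → 2 ≤ Module.finrank k (Le cs h T X ρ {j})) : 25 ≤ Module.finrank k V := by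
  by_contra hlt
  have h1 : ∀ j, j = 1 ∨ j = 2 → j ∈ Jx cs h X ρ := fun j hj => by_contra fun hj' => by
    have h3 := dim_edge R hirr hA hD hj'
    have h4 := h2 j hj'
    rw [(nd_vs j).2.2.2.2 hj] at h3
    omega
  have h3 := dim_edge R hirr hA hD hi
  have h4 := (nd_vs i).2.2.1
  have hD0 : D cs h X ρ ≠ ⊥ := fun e => by
    rw [e, finrank_bot] at hD
    cases hD
  subst hA
  have h5 : 0 ∈ Jx cs h X ρ ∨ 3 ∈ Jx cs h X ρ := by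
    by_contra h5
    have h6 := length_le R hirr [0, 3] (by simpa [not_or] using h5) v03 (by decide +kernel)
    rw [hD] at h6
    exact hlt h6
  have hJ : ∀ j, j ∉ Jx cs h X ρ ↔ j = i := fun j => ⟨fun hj => by
    have h6 := h1 i
    have h7 := h1 j
    fin_cases i <;> fin_cases j <;> simp_all, fun e => e ▸ hi⟩
  have hK : ∀ L : List (List (Fin 4)), (L.map fun ω => [i].map fun i => lbw AF i ω).Nodup → L.length = 24 →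
      Kv cs h R.nsys X ρ = ⊥ := fun L h6 h7 => by
    have h8 := Kv_bound R hirr [i] (by simpa using hi) L h6
    rw [hD, h7] at h8
    exact Submodule.finrank_eq_zero.1 (by omega)
  have h6 : i = 0 ∨ i = 3 := by
    have h6 := h1 i
    fin_cases i <;> simp_all
  rcases h6 with rfl | rfl
  · exact kill R hirr hJ (by omega) (hK u0 (by decide +kernel) rfl) hD0 (a := 0) (b := 1) (by decide) [2, 3, 1, 2, 0, 1, 2, 0, 1, 0]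
      [2, 1, 2, 3, 2, 1, 2, 0, 1] [1, 2, 3, 0, 1, 2, 1, 0] l0 e0 (by decide +kernel) (by decide +kernel) (by decide +kernel)
      (by decide +kernel) (by decide +kernel) (by decide +kernel) (by decide +kernel) (by decide +kernel)
  · exact kill R hirr hJ (by omega) (hK u3 (by decide +kernel) rfl) hD0 (a := 2) (b := 3) (by decide) [2, 1, 2, 0, 1, 2, 3, 0, 1, 2]
      [1, 2, 0, 1, 2, 3, 2, 1, 2] [3, 2, 1, 2, 0, 1, 2, 3] l3 e3 (by decide +kernel) (by decide +kernel) (by decide +kernel)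
      (by decide +kernel) (by decide +kernel) (by decide +kernel) (by decide +kernel) (by decide +kernel)

end dim

open Cfsg.Agent.H64.CrossChev (nd isType_F4) in
theorem boxF : BoxF := by
  intro n m p hp F _ _ _ K _ _ _ P h hm ⟨e⟩
  have := Fintype.ofFinite F
  obtain ⟨a, -, hF⟩ := FiniteField.card F p
  obtain ⟨b, -, hK⟩ := FiniteField.card K p
  rw [← Nat.card_eq_fintype_card] at hF
  have : Finite CoxeterMatrix.F₄.Group := Nodes.RGDChev.finite_W isType_F4 CoxeterMatrix.F₄.toCoxeterSystem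
  have hC := h.core
  obtain ⟨Y, _, _, φ, π, n', θ', hφ, hφi, -, -, -, -, R, hgen, hG, hT, -, N⟩ := Tool.lift hC
    (Nodes.RGDChev.rgd (K := K) isType_F4 CoxeterMatrix.F₄.toCoxeterSystem p)
    (Nodes.RGDChev.G1_eq_top isType_F4 CoxeterMatrix.F₄.toCoxeterSystem)
    (fun s hs t ht => Subtype.ext (H2.Ppd.diag_comm isType_F4.inList hs ht)) (E := fun _ => K)
    (nd isType_F4 KFacts.MulOdd.InstChev.parity_F4 K) e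
  have hne : Nonempty (Fin n) := hC.nonempty
  have hchar : CharP (AlgebraicClosure F) p := charP_of_injective_algebraMap (algebraMap F _).injective p
  have hirr := acRep_irr hφ (H920.span_eq_top hC.absIrred) hG
  have hD := finrank_D R hirr hT
  obtain ⟨i, hi⟩ := (Set.ne_univ_iff_exists_notMem _).1 (H218.SdLift.Jx_ne_univ R hirr hgen (by
    by_contra hcon
    push Not at hcon
    refine hC.nonabelian ⟨⟨fun x y => ?_⟩⟩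
    obtain ⟨⟨x, hx⟩, rfl⟩ := QuotientGroup.mk_surjective x
    obtain ⟨⟨y, hy⟩, rfl⟩ := QuotientGroup.mk_surjective y
    rw [← hφ] at hx hy
    obtain ⟨x, rfl⟩ := hx
    obtain ⟨y, rfl⟩ := hy
    obtain rfl : x = y := (H218.SdLift.acRep_injective hφi (hcon x)).trans (H218.SdLift.acRep_injective hφi (hcon y)).symm
    rfl))
  obtain ⟨s, hs⟩ := Nat.gcd_dvd_right a b
  have hg : 0 < Nat.gcd a b := Nat.gcd_pos_of_pos_left _ a.pos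
  have hs0 : 0 < s := Nat.pos_of_mul_pos_left (hs ▸ b.pos)
  have h1 : ∀ j, j ∉ Jx _ isType_F4.isCartan _ (lin (acRep φ)) → 2 ^ s ≤ _ := fun j hj => by
    obtain ⟨d, hd, e⟩ := edge_pow R hG hT hφ hC.absIrred (N j) hj (s := s) hF (Nat.card_eq_fintype_card.trans hK)
      (by rw [mul_comm, ← hs])
    exact e ▸ Nat.pow_le_pow_left hd s
  have h2 := dim_edge R hirr cartan_eq hD hi
  have h3 := dim_ge R hirr cartan_eq hD hi fun j hj => (Nat.le_self_pow hs0.ne' 2).trans (h1 j hj)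
  have h4 := h1 i hi
  have h5 := (nd_vs i).2.2.1
  rw [Module.finrank_fintype_fun_eq_card, Fintype.card_fin] at h2 h3
  rw [hF, hK, ← pow_mul, ← pow_mul, Nat.pow_right_inj hp.out.one_lt] at hm
  have h6 : m ≤ 12 * s := by
    refine Nat.le_of_mul_le_mul_left ((Nat.mul_le_mul_right m (Nat.gcd_le_left b a.pos)).trans ?_) hg
    rw [hm]
    nth_rewrite 1 [hs]
    exact le_of_eq (by ring)
  have h7 := h.hi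
  have h8 : s = 1 := by
    by_contra h8
    have h9 := H2.Ppd.two_mul_le_two_pow hs0
    omega
  obtain rfl : m = 12 := by omega
  exact ⟨by rw [hK, hF, show (b : ℕ) = a by omega], by omega⟩

end Cfsg.Agent.SM.Ti.F
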